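import Cfsg.Agent.EqLemmas

/-!
Generation of `SL_{n+1}(K)` from one root group and the monomial cycle `w`.
* `mem_of_all_transvections` : a subgroup with all elementary transvections is everything.
* `eq_top_of_root_and_cycle` : a subgroup with `{t_01(c)}` and `w` is everything.
-/

set_option autoImplicit false

namespace Cfsg.Agent.SLGen

open Matrix

variable {K : Type*} [Field K]

local notation "tv" => Matrix.SpecialLinearGroup.transvection

section gen
variable {ι : Type*} [Fintype ι] [DecidableEq ι]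

theorem tv_mul_apply (i j : ι) (c : K) (M : Matrix ι ι K) (k l : ι) :
    (Matrix.transvection i j c * M) k l = M k l + if k = i then c * M j l else 0 := by
  by_cases h : k = i
  · subst h; simp [Matrix.transvection_mul_apply_same]
  · simp [h, Matrix.transvection_mul_apply_of_ne]

theorem mul_tv_apply (i j : ι) (c : K) (M : Matrix ι ι K) (k l : ι) :
    (M * Matrix.transvection i j c) k l = M k l + if l = j then c * M k i else 0 := by
  by_cases h : l = j
  · subst h; simp [Matrix.mul_transvection_apply_same]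
  · simp [h, Matrix.mul_transvection_apply_of_ne]

theorem tv_apply (i j : ι) (c : K) (k l : ι) :
    Matrix.transvection i j c k l = (if k = l then 1 else 0) + if k = i ∧ l = j then c else 0 := by
  simp only [Matrix.transvection, Matrix.add_apply, Matrix.one_apply, Matrix.single_apply]
  congr 1
  exact if_congr (by constructor <;> rintro ⟨rfl, rfl⟩ <;> exact ⟨rfl, rfl⟩) rfl rfl

theorem tv_coe {i j : ι} (hij : i ≠ j) (c : K) :
    ((tv hij c : Matrix.SpecialLinearGroup ι K) : Matrix ι ι K) = Matrix.transvection i j c := rfl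

theorem diag2n_eq_word {i j : ι} (hij : i ≠ j) {a : K} (ha : a ≠ 0) :
    Matrix.SpecialLinearGroup.diag2n hij a ha =
      tv hij a * tv hij.symm (-a⁻¹) * tv hij a * tv hij (-1) * tv hij.symm 1 * tv hij (-1) := by
  apply Subtype.ext
  ext k l
  simp only [Matrix.SpecialLinearGroup.coe_mul, mul_assoc]
  simp only [tv_coe]
  rw [Matrix.SpecialLinearGroup.diag2n_coe]
  have hji : j ≠ i := hij.symm
  simp only [tv_mul_apply, tv_apply, Matrix.diagonal_apply]
  rcases eq_or_ne k i with rfl | hki
  · rcases eq_or_ne l k with rfl | hlk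
    · simp [hij, hji, ha] <;> (try field_simp) <;> (try ring)
    · rcases eq_or_ne l j with rfl | hlj
      · simp [hij, hji, ha] <;> (try field_simp) <;> (try ring)
      · simp [hij, hji, hlk, hlj, hlk.symm, hlj.symm]
  · rcases eq_or_ne k j with rfl | hkj
    · rcases eq_or_ne l i with rfl | hli
      · simp [hij, hji, ha] <;> (try field_simp) <;> (try ring)
      · rcases eq_or_ne l k with rfl | hlk
        · simp [hij, hji, ha] <;> (try field_simp) <;> (try ring)
        · simp [hij, hji, hli, hlk, hli.symm, hlk.symm]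
    · simp [hki, hkj]

theorem mem_of_all_transvections [Nontrivial ι] (H : Subgroup (Matrix.SpecialLinearGroup ι K))
    (h : ∀ (i j : ι) (hij : i ≠ j) (c : K), tv hij c ∈ H) (g : Matrix.SpecialLinearGroup ι K) :
    g ∈ H := by
  refine Matrix.SpecialLinearGroup.diagonal_transvection_induction' (· ∈ H) g ?_ h
    (fun A B => mul_mem)
  intro i j hij c hc
  rw [diag2n_eq_word hij hc]
  exact mul_mem (mul_mem (mul_mem (mul_mem (mul_mem (h _ _ _ _) (h _ _ _ _)) (h _ _ _ _))
    (h _ _ _ _)) (h _ _ _ _)) (h _ _ _ _)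

/-- `[t_ij(a), t_jl(b)] = t_il(ab)`. -/
theorem tv_comm {i j l : ι} (hij : i ≠ j) (hjl : j ≠ l) (hil : i ≠ l) (a b : K) :
    tv hij a * tv hjl b * (tv hij a)⁻¹ * (tv hjl b)⁻¹ = tv hil (a * b) := by
  rw [Matrix.SpecialLinearGroup.transvection_inv, Matrix.SpecialLinearGroup.transvection_inv]
  apply Subtype.ext
  ext k m
  simp only [Matrix.SpecialLinearGroup.coe_mul, mul_assoc]
  change (Matrix.transvection i j a * (Matrix.transvection j l b * (Matrix.transvection i j (-a) *
    Matrix.transvection j l (-b)))) k m = Matrix.transvection i l (a * b) k m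
  simp only [tv_mul_apply, tv_apply]
  rcases eq_or_ne k i with rfl | hki
  · rcases eq_or_ne m j with rfl | hmj
    · simp [hij, hjl, hil, hij.symm, hjl.symm, hil.symm]
    · rcases eq_or_ne m l with rfl | hml
      · simp [hij, hjl, hil, hij.symm, hjl.symm, hil.symm]
      · simp [hij, hjl, hil, hij.symm, hjl.symm, hil.symm, hmj, hml, hmj.symm, hml.symm]
  · rcases eq_or_ne k j with rfl | hkj
    · rcases eq_or_ne m l with rfl | hml
      · simp [hij, hjl, hil, hij.symm, hjl.symm, hil.symm]
      · simp [hij, hjl, hil, hij.symm, hjl.symm, hil.symm, hml, hml.symm]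
    · simp [hki, hkj]

end gen

variable {n : ℕ}

/-- All transvections from the upward chain and the wrap-around one. -/
theorem eq_top_of_chain (hn : 1 ≤ n) (H : Subgroup (Matrix.SpecialLinearGroup (Fin (n + 1)) K))
    (hup : ∀ (i j : Fin (n + 1)) (hij : i ≠ j), j.val = i.val + 1 → ∀ c : K, tv hij c ∈ H)
    (hwrap : ∀ (i j : Fin (n + 1)) (hij : i ≠ j), i.val = n → j.val = 0 → ∀ c : K, tv hij c ∈ H) :
    H = ⊤ := by
  have comb : ∀ {i j l : Fin (n + 1)} (hij : i ≠ j) (hjl : j ≠ l) (hil : i ≠ l),
      (∀ c, tv hij c ∈ H) → (∀ c, tv hjl c ∈ H) → ∀ c : K, tv hil c ∈ H := by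
    intro i j l hij hjl hil h1 h2 c
    have := mul_mem (mul_mem (mul_mem (h1 c) (h2 1)) (inv_mem (h1 c))) (inv_mem (h2 1))
    rwa [tv_comm hij hjl hil, mul_one] at this
  have hU : ∀ (d : ℕ) (i j : Fin (n + 1)) (hij : i ≠ j), j.val = i.val + d + 1 →
      ∀ c : K, tv hij c ∈ H := by
    intro d
    induction d with
    | zero => intro i j hij h; exact hup i j hij h
    | succ d ih =>
      intro i j hij h
      have hm : i.val + d + 1 < n + 1 := by omega
      exact comb (i := i) (j := ⟨i.val + d + 1, hm⟩) (l := j) (Fin.ne_of_val_ne (by simp; omega))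
        (Fin.ne_of_val_ne (by simp; omega)) hij (ih i _ _ rfl) (hup _ j _ (by simp; omega))
  have hlt : ∀ (i j : Fin (n + 1)) (hij : i ≠ j), i.val < j.val → ∀ c : K, tv hij c ∈ H :=
    fun i j hij h => hU (j.val - i.val - 1) i j hij (by omega)
  have hlast : ∀ (i j : Fin (n + 1)) (hij : i ≠ j), i.val = n → ∀ c : K, tv hij c ∈ H := by
    intro i j hij hi
    by_cases hj : j.val = 0
    · exact hwrap i j hij hi hj
    · exact comb (i := i) (j := ⟨0, by omega⟩) (l := j) (Fin.ne_of_val_ne (show i.val ≠ 0 by omega))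
        (Fin.ne_of_val_ne (show (0 : ℕ) ≠ j.val by omega)) hij (hwrap i _ _ hi rfl)
        (hlt _ j _ (show (0 : ℕ) < j.val by omega))
  haveI : Nontrivial (Fin (n + 1)) := Fin.nontrivial_iff_two_le.2 (by omega)
  rw [eq_top_iff]
  intro g _
  refine mem_of_all_transvections H (fun i j hij => ?_) g
  have hv : i.val ≠ j.val := fun e => hij (Fin.ext e)
  by_cases h : i.val < j.val
  · exact hlt i j hij h
  · by_cases hi : i.val = n
    · exact hlast i j hij hi
    · exact comb (i := i) (j := ⟨n, by omega⟩) (l := j) (Fin.ne_of_val_ne (by simp; omega))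
        (Fin.ne_of_val_ne (by simp; omega)) hij (hlt i _ _ (by simp; omega))
        (hlast _ j _ rfl)

/-- The monomial cycle matrix. -/
def cycleMat (K : Type*) [Field K] (n : ℕ) : Matrix (Fin (n + 1)) (Fin (n + 1)) K :=
  Matrix.of (fun i j => if j.val = i.val + 1 then 1 else if i.val = n ∧ j.val = 0 then (-1) ^ n else 0)

variable (w : Matrix.SpecialLinearGroup (Fin (n + 1)) K)
  (hw : (w : Matrix (Fin (n + 1)) (Fin (n + 1)) K) = cycleMat K n)

include hw

/-- `w` shifts transvections down by one. -/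
theorem cycle_mul_tv {a b : Fin (n + 1)} (hab : a ≠ b) {a' b' : Fin (n + 1)} (hab' : a' ≠ b')
    (ha : a.val = a'.val + 1) (hb : b.val = b'.val + 1) (c : K) :
    w * tv hab c = tv hab' c * w := by
  apply Subtype.ext
  ext k l
  simp only [Matrix.SpecialLinearGroup.coe_mul]
  change ((w : Matrix (Fin (n + 1)) (Fin (n + 1)) K) * Matrix.transvection a b c) k l =
    (Matrix.transvection a' b' c * (w : Matrix (Fin (n + 1)) (Fin (n + 1)) K)) k l
  rw [hw, mul_tv_apply, tv_mul_apply]
  simp only [cycleMat, Matrix.of_apply, Fin.ext_iff, ha, hb]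
  congr 1
  split_ifs <;> first | (exfalso; omega) | (exfalso; simp_all; done) | (simp; done) | ring1

/-- `w` moves `(0,1)` to `(n,0)`. -/
theorem cycle_mul_tv_wrap {a b : Fin (n + 1)} (hab : a ≠ b) {a' b' : Fin (n + 1)} (hab' : a' ≠ b')
    (ha : a.val = 0) (hb : b.val = 1) (ha' : a'.val = n) (hb' : b'.val = 0) (c : K) :
    w * tv hab c = tv hab' ((-1) ^ n * c) * w := by
  apply Subtype.ext
  ext k l
  simp only [Matrix.SpecialLinearGroup.coe_mul]
  change ((w : Matrix (Fin (n + 1)) (Fin (n + 1)) K) * Matrix.transvection a b c) k l =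
    (Matrix.transvection a' b' ((-1) ^ n * c) * (w : Matrix (Fin (n + 1)) (Fin (n + 1)) K)) k l
  rw [hw, mul_tv_apply, tv_mul_apply]
  simp only [cycleMat, Matrix.of_apply, Fin.ext_iff, ha, hb, ha', hb']
  congr 1
  split_ifs <;> first | (exfalso; omega) | (exfalso; simp_all; done) | (simp; done) | ring1

theorem eq_top_of_root_and_cycle (hn : 1 ≤ n)
    (H : Subgroup (Matrix.SpecialLinearGroup (Fin (n + 1)) K)) (hwH : w ∈ H)
    (h01 : ∀ (i j : Fin (n + 1)) (hij : i ≠ j), i.val = 0 → j.val = 1 → ∀ c : K, tv hij c ∈ H) :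
    H = ⊤ := by
  refine eq_top_of_chain hn H ?_ ?_
  · intro i j hij h c
    obtain ⟨m, hm⟩ : ∃ m, i.val = m := ⟨_, rfl⟩
    induction m generalizing i j with
    | zero => exact h01 i j hij hm (by omega) c
    | succ m ih =>
      have hne : (⟨m, by omega⟩ : Fin (n + 1)) ≠ ⟨m + 1, by omega⟩ :=
        Fin.ne_of_val_ne (by simp)
      have e := cycle_mul_tv w hw hij hne (by simp; omega) (by simp; omega) c
      have : tv hij c = w⁻¹ * tv hne c * w := by rw [mul_assoc, ← e, inv_mul_cancel_left]
      rw [this]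
      exact mul_mem (mul_mem (inv_mem hwH) (ih _ _ hne rfl rfl)) hwH
  · intro i j hij hi hj c
    have hne : (⟨0, by omega⟩ : Fin (n + 1)) ≠ ⟨1, by omega⟩ := Fin.ne_of_val_ne (by simp)
    have e := cycle_mul_tv_wrap w hw hne hij rfl rfl hi hj ((-1) ^ n * c)
    rw [← mul_assoc ((-1 : K) ^ n), ← mul_pow, neg_one_mul, neg_neg, one_pow, one_mul] at e
    have : tv hij c = w * tv hne ((-1) ^ n * c) * w⁻¹ := by rw [e, mul_inv_cancel_right]
    rw [this]
    exact mul_mem (mul_mem hwH (h01 _ _ hne rfl rfl _)) (inv_mem hwH)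

end Cfsg.Agent.SLGen
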